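import Cfsg.Agent.N2.SpK.SuzB

/-!
# N2 (S3519), the sporadic rows: the multipliers for `Suz` (helper26)

An element which commutes with an outer automorphism lies in a type which is one class.
-/

set_option autoImplicit false
set_option maxRecDepth 100000

namespace Cfsg.Agent.N2.SpK

open Cfsg Cfsg.Spor Cfsg.Agent.TAB Cfsg.Agent.TAB.Eng Cfsg.Agent.TAB.Use Cfsg.Agent.TH.Spor
open Cfsg.Agent.H714.S8.SuzFam Cfsg.Agent.H123.Cls Cfsg.Agent.H123.Cls.SuzDat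
open Cfsg.Agent.OddHalf.Table.SuzRep (ψ ψ_injective)
open Cfsg.Agent.OddHalf.Table.SuzGraph (T)
open Cfsg.Agent.OddHalf.Table.SuzNets (nT)
open Cfsg.Agent.Lib.BitNetSimple (appF force force_eq)

theorem suz_rat {τ : MulAut Suz} (hτ : ∀ g, ψ (τ g) = T * ψ g * T⁻¹) {g : Suz} (h : IsConj (τ g) g) :
    RatT TAB.Sz.td (TAB.Sz.td.ty g) := by
  have h1 : ∀ y, TAB.Sz.td.ty y = TAB.Sz.td.ty g → IsConj g y := fun y hy => by
    obtain ⟨σ, rfl, -⟩ := fam_gal g y (by rw [← TAB.Sz.sw_sw (fam g), ← TAB.Sz.td_ty, ← hy, TAB.Sz.td_ty, TAB.Sz.sw_sw])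
    rcases KFacts.SuzOut.out_two τ σ with ⟨n, hn⟩ | ⟨n, hn⟩ | ⟨n, hn⟩
    · exact absurd hn.symm (H323.SuzOut.τ_outer hτ n)
    · rw [← hn]
      exact isConj_iff.2 ⟨n, rfl⟩
    · rw [show σ = τ * MulAut.conj n by rw [hn]; group, MulAut.mul_apply]
      exact h.symm.trans (τ.toMonoidHom.map_isConj (isConj_iff.2 ⟨n, rfl⟩))
  exact fun x y hx hy => ⟨1, by rw [pow_one]; exact (h1 x hx).symm.trans (h1 y hy)⟩

/-- the representative commutes with the product of a word and of the outer involution -/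
noncomputable def suzC (i : ℕ) (n : List ℕ) : Bool :=
  force ((D.map fun x => x.1).getD i 0) fun P => chkL 7 n && allN (fun p => force (lk 11 P p) fun q =>
    Nat.beq (lk 11 P (evw 11 gens n (appF nT p))) (evw 11 gens n (appF nT q))) 1782

theorem suz_word {i : ℕ} (hi : 1 < i ∧ i < 37) {n : List ℕ} (h : suzC i n = true) (k : ℕ) :
    RatT TAB.Sz.td (TAB.Sz.dat.pwf i k) := by
  obtain ⟨τ, hτ⟩ := H323.SuzOut.exists_τ
  obtain ⟨y, hy⟩ := TAB.Sz.inh i hi.2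
  have h1 : fam y = i := by
    rw [← TAB.Sz.sw_sw (fam y), ← TAB.Sz.td_ty, hy]
    exact (if_neg (by omega)).trans (if_neg (by omega))
  obtain ⟨h2, _, ⟨g, rfl⟩, h3, -, b, hb, h4⟩ := fam_spec y
  rw [suzC, force_eq, Bool.and_eq_true, ← h1, List.getD_eq_getElem _ _ (by rwa [List.length_map]),
    List.getElem_map] at h
  have h5 : ∀ p : Fin 1782, (T p : ℕ) = appF nT p := fun p =>
    (H323.SuzOut.ev_fin T p).symm.trans (H323.SuzOut.ev_perm OddHalf.Table.SuzGraph.okT p.2)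
  have h6 := ev_tab n (chkL_iff _ _ h.1)
  have h7 : IsConj (τ g) g := isConj_iff.2 ⟨SporadicRecognition.SuzOrder.el (n.map gn), ψ_injective (by
    rw [map_mul, map_mul, map_inv, hτ, mul_inv_eq_iff_eq_mul, ← mul_assoc, mul_inv_eq_iff_eq_mul]
    refine Equiv.ext fun p => Fin.ext ?_
    have h7 := (allN_iff _ _).1 h.2 p p.2
    rw [force_eq, ← h3, ← h5, ← h5, ← h6, ← h6, ← h3] at h7
    exact (Nat.eq_of_beq_eq_true h7).symm)⟩
  have h8 := suz_rat hτ (g := g ^ k) (by rw [map_pow]; exact h7.pow k)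
  rwa [TAB.Sz.td.pow, TAB.Sz.td_ty, ← fam_conj hb h4, ← TAB.Sz.td_ty, hy] at h8

theorem suz8 : suzC 8
    [1, 5, 1, 2, 3, 2, 1, 5, 6, 1, 2, 3, 2, 5, 3, 4, 1, 2, 3, 2, 1, 0, 1, 5, 2, 0] = true := by decide +kernel

theorem suz11 : suzC 11
    [2, 5, 1, 2, 3, 2, 4, 3, 6, 1, 0, 1, 2, 6, 1, 0, 1, 5, 3, 4, 3, 2, 3, 1, 2, 1, 0, 1, 5, 6] = true := by decide +kernel

theorem suz23 : suzC 23
    [2, 1, 4, 3, 2, 1, 0, 3, 2, 1, 6, 1, 2, 3, 4, 2, 3, 1, 2, 0, 1, 5, 0, 1, 2, 3, 1, 2, 3, 4] = true := by decide +kernel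

theorem suz26 : suzC 26
    [1, 0, 2, 1, 4, 3, 6, 5, 1, 2, 3, 2, 4, 3, 6, 2, 1, 5, 2, 3, 2, 1, 6, 4, 2, 0, 1] = true := by decide +kernel

theorem suz27 : suzC 27
    [1, 3, 2, 3, 4, 5, 1, 2, 3, 2, 1, 3, 2, 4, 3, 6, 2, 1, 5, 4, 3, 2, 1, 6, 5, 2, 1, 6, 3, 4, 3, 2] = true := by decide +kernel

theorem inK_suz {K : Type} [Group K] (h : Spor.IsoSuz K) :
    InK K TAB.Sz.dat (Sm2.mkRows TAB.Sz.rowA TAB.Sz.rowB) [(20, 2), (21, 2), (32, 2)] := by
  obtain ⟨e⟩ := h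
  have : Finite Suz := finite_of_mass TAB.Sz.mass (by decide)
  refine InK.of_equiv ⟨_, TAB.Sz.mass, TAB.Sz.tab, bndsSuz.1, kap_of_bnds TAB.Sz.mass TAB.Sz.inh bndsSuz.1 bndsSuz.2
    (X := [8, 2, 11, 23, 26, 27, 30]) ?_ [(5, 5, 1), (17, 3, 1), (18, 5, 1), (24, 3, 1)] (Y := [(21, 2)])
    (List.forall_mem_singleton.2 (KapT.of_le TAB.Sz.mass (U := 18) (fun x hx => ?_) (by decide) (by decide +kernel)))
    (by decide +kernel)⟩ e
  · simp only [List.forall_mem_cons]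
    exact ⟨suz_word (by decide) suz8 1, suz_word (by decide) suz8 3, suz_word (by decide) suz11 1,
      suz_word (by decide) suz23 1, suz_word (by decide) suz26 1, suz_word (by decide) suz27 1,
      suz_word (by decide) suz27 3, List.forall_mem_nil _⟩
  · have h1 := TID.Suz.cent_mul x
    rw [← TAB.Sz.sw_sw (fam x), ← TAB.Sz.td_ty, hx, show SZ.getD (TAB.Sz.sw 21) 0 = 49816166400 from rfl] at h1
    omega

end Cfsg.Agent.N2.SpK
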