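import Cfsg.Agent.N2.SpK.Asm
import Cfsg.Agent.TH.Spor.InD

/-!
# N2 (S3519), the sporadic rows: the multipliers for `HS` (helper26)
-/

set_option autoImplicit false
set_option maxRecDepth 100000

namespace Cfsg.Agent.N2.SpK

open Cfsg Cfsg.Agent.TAB Cfsg.Agent.TAB.Eng Cfsg.Agent.TAB.Use Cfsg.Agent.TH.Spor Cfsg.Agent.TAB.Sm2

/-- the certificates -/
def csHS : List (ℕ × List (ℤ × ℕ)) :=
    [(1, [(1, 4)]), (0, [(1, 12)]), (1, [(1, 6)]), (1, [(1, 1)]), (0, [(1, 14)]), (1, [(1, 7)])]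

/-- the steps -/
def stHS : List St :=
    [.cm 4 0 2, .cm 4 0 9, .cm 4 0 3, .cm 5 1 5, .cm 5 0 8, .cm 6 1 5, .cm 6 0 8, .cm 10 0 3, .cm 10 1 5,
    .cm 10 0 9, .cm 11 2 3, .cm 11 1 5, .cm 11 2 9, .cm 12 1 16, .cm 12 3 9, .cm 12 1 5, .cm 13 4 11, .cm 13 0 9,
    .cm 14 0 9, .cm 14 4 5, .cm 15 4 15, .cm 15 5 2, .cm 15 3 8, .cm 16 3 7, .cm 16 5 9, .cm 16 5 1, .cm 17 5 9,
    .cm 17 4 5, .cm 17 3 9, .cm 18 0 9, .cm 18 1 5, .cm 19 2 9, .cm 19 5 1, .cm 20 0 9, .cm 20 0 2, .ds 12 2 1 0,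
    .pw 13 2, .pw 15 2, .ds 19 2 1 0]

/-- the bounds -/
def bdHS : List ℕ :=
    [44352000, 2880, 7680, 360, 3840, 64, 256, 300, 500, 25, 36, 24, 7, 16, 16, 20, 20, 11, 12, 15, 20]

theorem chkHS : chk HS.D (TwoF.SpO.irows (mkRows HS.A HS.B)) (prows (mkRows HS.A HS.B)) [] csHS stHS
    (ini HS.D [1, 2, 3, 7, 8, 9]) bdHS = true := by decide +kernel

theorem inK_hs {K : Type} [Group K] (h : Spor.IsoHS K) : InK K HS.D (mkRows HS.A HS.B) [(13, 2)] := by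
  obtain ⟨e⟩ := h
  obtain ⟨f⟩ := HS.isoQ
  have := Fintype.ofFinite HN.HS100.Q
  have h1 : okT HS.D (mkRows HS.A HS.B) = true := by decide +kernel
  have h2 := hs_one HS.mass HS.tabQ.2
  have h3 := unif_of_one HS.mass _ (by decide +kernel) h2
  exact InK.of_equiv ⟨_, HS.mass, HS.tabQ.2, h3, kap_of_bnds HS.mass HS.tabQ.1 h3
    (bnd_run HS.mass.1 HS.tabQ.1 (rw_of HS.mass HS.tabQ.2 h1) (bnds_ini HS.mass h2) chkHS) (List.forall_mem_nil _)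
    [(20, 2, 2)] (List.forall_mem_nil _) (by decide +kernel)⟩ (e.trans f.symm)

end Cfsg.Agent.N2.SpK
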