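import Cfsg.Agent.N2.SpK.Defs
import Cfsg.Agent.TH.Spor.InA
import Cfsg.Agent.TH.Spor.InB
import Cfsg.Agent.TH.Spor.J1
import Cfsg.Agent.TH.Spor.J3Tab
import Cfsg.Agent.TAB.F23C.Main

/-!
# N2 (S3519), the sporadic rows: the tables whose types are known as rational classes (helper26)

`J1 J2 J3 J4 McL He Ru ON Ly Co1 Co2 Th HN Fi23`
-/

set_option autoImplicit false
set_option maxRecDepth 100000

namespace Cfsg.Agent.N2.SpK

open Cfsg Cfsg.Agent.TAB Cfsg.Agent.TAB.Eng Cfsg.Agent.TAB.Use Cfsg.Agent.TH.Spor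

variable {K : Type} [Group K]

theorem inK_j1 (h : Spor.IsoJ1 K) : InK K TH.Spor.J1.dat TH.Spor.J1.tab [] :=
  h.elim fun e => (inK_of_rat (by decide +kernel) TH.Spor.J1.exists_tab).of_equiv e

theorem inK_j3 (h : Spor.IsoJ3 K) : InK K TH.Spor.J3.dat TH.Spor.J3.tab [] := by
  have := H306.SD.J.finite_of h
  exact inK_of_rat (by decide +kernel) (TH.Spor.J3.exists_tab h)

theorem inK_j2 (h : Spor.IsoJ2 K) : InK K J2.D (Sm2.mkRows J2.A J2.B) [] := by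
  obtain ⟨e⟩ := h
  obtain ⟨f⟩ := H379.J2Spec.iso
  obtain ⟨S, h1, -, -, h2, -, h3⟩ := J2.tab
  exact (inK_of_rat (by decide +kernel) ⟨S, h1, h2, h3⟩).of_equiv (e.trans f)

theorem inK_j4 (h : Spor.IsoJ4 K) : InK K J4.D J4.RR [] := by
  obtain ⟨e⟩ := h
  obtain ⟨T, h1, h2, h3⟩ := J4.tab
  obtain ⟨T', -, h4, h5⟩ := J4.exists_T
  have h6 : ∀ g, T'.ty g = T.ty g := fun g => (J4.ex_is g).elim fun t ht => (h5 g t ht).trans (h2 g t ht).symm
  exact (inK_of_rat (by decide +kernel) ⟨T, h1, fun g g' e => h4 g g' ((h6 g).trans (e.trans (h6 g').symm)), h3⟩).of_equiv e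

theorem inK_mcl (h : Spor.IsoMcL K) : InK K McL.D McL.RR [] := by
  obtain ⟨e⟩ := h
  obtain ⟨f⟩ := H359.CT.McL.iso_K0
  obtain ⟨T, h1, h2, h3, -⟩ := McL.tabK
  exact (inK_of_rat (by decide +kernel) ⟨T, h1, h2, h3⟩).of_equiv (e.trans f.symm)

theorem inK_on (h : Spor.IsoON K) : InK K ON.dON ON.tabON [] := by
  obtain ⟨e⟩ := h
  obtain ⟨T, h1, h2, -, h3⟩ := ON.exists_tab
  exact (inK_of_rat (by decide +kernel) ⟨T, h1, h2, h3⟩).of_equiv e

theorem inK_ly (h : Spor.IsoLy K) : InK K Ly.dat Ly.tb [] := h.elim fun e => (inK_of_rat (by decide +kernel) Ly.tab).of_equiv e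

theorem inK_co1 (h : Spor.IsoCo1 K) : InK K Co1.D Co1.RR [] := by
  obtain ⟨e⟩ := h
  obtain ⟨T, h1, h2, -, -, h3⟩ := Co1.tab
  exact (inK_of_rat (by decide +kernel) ⟨T, h1, h2, h3⟩).of_equiv e

theorem inK_co2 (h : Spor.IsoCo2 K) : InK K Co2.D (Sm2.mkRows Co2.A Co2.B) [] := by
  obtain ⟨e⟩ := h
  have := Co2.finite
  obtain ⟨T, hm, hr, -, hs⟩ := Co2.str
  refine (inK_of_rat (by decide +kernel) ⟨T, hm, fun g h e => ?_, (Co.tab_of_virt hm Co2.ok_one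
    (Co.virt_of_certs hm.1 Co2.ok_primes hs (allL_spec Co2.ok_certs) Co2.ok_all) Co2.ok_rows).2⟩).of_equiv e
  rcases hr g h e with h1 | ⟨-, h1⟩
  · exact ⟨1, (pow_one g).symm ▸ h1⟩
  · have h2 : g ^ (orderOf g - 1) = g⁻¹ := eq_inv_of_mul_eq_one_left (by
      rw [← pow_succ, Nat.sub_add_cancel (orderOf_pos g), pow_orderOf_eq_one])
    exact ⟨_, h2 ▸ h1⟩

theorem inK_th (h : Spor.IsoTh K) : InK K TAB.Th.D (Sm2.mkRows TAB.Th.rowA TAB.Th.rowB) [] := by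
  obtain ⟨e⟩ := h
  obtain ⟨T, h1, h2, -, -, h3⟩ := TAB.Th.tab
  exact (inK_of_rat (by decide +kernel) ⟨T, h1, h2, h3⟩).of_equiv e

theorem inK_hn (h : Spor.IsoHN K) : InK K TAB.HN.dat TAB.HN.rows [] :=
  h.elim fun e => (inK_of_rat (by decide +kernel) ⟨_, TAB.HN.inT.mass, TAB.HN.inT.rat, TAB.HN.tab⟩).of_equiv e

theorem inK_fi23 (h : Spor.IsoFi23 K) : InK K F23.D F23.R [] := by
  obtain ⟨e⟩ := h
  obtain ⟨T, H⟩ := F23C.inF23
  have := H.finite
  exact (inK_of_rat (by decide +kernel) ⟨T, H.1, H.2.1, F23.tab_of H⟩).of_equiv e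

section

open Cfsg.Agent.TAB.Ru Cfsg.Agent.H300.Ru

theorem inK_ru (h : Spor.IsoRu K) : InK K Ru.D Ru.RR [] := by
  obtain ⟨e⟩ := h
  have := finH
  have hs : ∀ sd ∈ seeds, Virt T (nth sd) := List.forall_mem_cons.2 ⟨virt_gc gc1, List.forall_mem_cons.2 ⟨virt_gc gc2,
    List.forall_mem_cons.2 ⟨virt_gc gc5, List.forall_mem_singleton.2
      (ON.virt_coad (k := 2) mass rat (virt_gc gc0) (by decide +kernel))⟩⟩⟩
  have hk := Nat.card_le_card_of_injective (fun j : Fin 36 => ConjClasses.mk (R j))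
    fun i j h => nonconj i j (ConjClasses.mk_eq_mk_iff_isConj.1 h)
  rw [Nat.card_eq_fintype_card, Fintype.card_fin] at hk
  have h1 := Sm1.virt_five mass rfl hs 1 [1, 9, 14, 17, 18] (by decide) (by decide +kernel) ok_A
  have h2 := Sm1.virt_okC mass.1 (List.forall_mem_append.2 ⟨hs, List.forall_mem_singleton.2 h1⟩) ok_B
  exact (inK_of_rat (by decide +kernel) ⟨T, mass, rat, Sm1.tab_of_cls mass (fun r hr => h2 _ (List.of_mem_zip hr).2) ok_R hk⟩).of_equiv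
    (e.trans RuLat.Main.equiv)

end

section

open Cfsg.Agent.TAB.He Cfsg.Agent.TAB.Co Cfsg.Agent.H447.CTab
open Cfsg.Agent.H825.HT.He7 Cfsg.Agent.H300.Cls

theorem inK_he (h : Spor.IsoHe K) : InK K He.D He.RR [] := by
  obtain ⟨e⟩ := h
  have := finite
  obtain ⟨T, hm, hr, hs⟩ := he_rat
  have h1 := Sm1.virt_okC hm.1 hs ok_A
  have h2 := h1 u List.mem_cons_self
  have h3 := virt_half hm h2 (fun p hp => h1 _ (List.mem_cons_of_mem _ (List.of_mem_zip hp).2)) ok_H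
  have h4 : Virt T (nth w2) := (h2.add (h3.smul (-1))).congr (by decide +kernel)
  exact (inK_of_rat (by decide +kernel) ⟨T, hm, hr, Sm1.tab_of_cls hm (fun r hr => List.forall_mem_append.2
    ⟨fun r hr => h1 r (List.mem_cons_of_mem _ (List.mem_cons_of_mem _ hr)),
      List.forall_mem_cons.2 ⟨h3, List.forall_mem_singleton.2 h4⟩⟩ _ (List.of_mem_zip hr).2) ok_R classes⟩).of_equiv e

end

end Cfsg.Agent.N2.SpK
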