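import Cfsg.Agent.N2.SpK.Cnt
import Cfsg.Agent.TAB.Sm2.Tits

/-!
# N2 (S3519), the sporadic rows: the multipliers for the Tits group (helper26)
-/

set_option autoImplicit false
set_option maxRecDepth 100000

namespace Cfsg.Agent.N2.SpK

open Cfsg Cfsg.Agent.TAB Cfsg.Agent.TAB.Eng Cfsg.Agent.TAB.Use Cfsg.Agent.TH.Spor Cfsg.Agent.TAB.Sm2
open Cfsg.Agent.Characters

theorem inK_tits {K : Type} [Group K] (h : Lie.IsoTits K) :
    InK K Tits.dat (mkRows Tits.rA Tits.rB) [(9, 2), (10, 2), (12, 2), (14, 4)] := by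
  have := Tits.finite_of h
  obtain ⟨T, hm, hc, hT⟩ := Tits.tab_of h
  have hU := unif_of_one hm _ (by decide +kernel) hc.one
  have hI := hc.inh
  have h9 : ∀ x, T.ty x = 9 → ¬ IsConj x (x ^ 7) := fun x hx h1 => by
    obtain ⟨χ, h2, h3⟩ := hc.chi
    obtain ⟨c, h4⟩ := isConj_iff.1 h1
    have h5 : x ^ 7 = x⁻¹ := eq_inv_of_mul_eq_one_left (by
      rw [← pow_succ, ← pow_orderOf_eq_one x, T.ord, hx]
      rfl)
    refine h3.ne (g := x) (by rw [hx]; decide +kernel) (σ := starRingAut) Complex.conj_I ?_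
    exact (Core.isCharacter_apply_inv (Core.isIrr_isCharacter h2) x).symm.trans
      (by rw [← h5, ← h4, Core.isIrr_isClassFunction h2])
  have h10 : ∀ x, T.ty x = 10 → 16 ≤ Nat.card (Subgroup.centralizer ({x} : Set K)) := fun x hx =>
    two_mul_le_cn (a := 2) (e := 11) (by rw [T.ord, hx]; rfl) (by rw [hm.1]; decide +kernel)
      ((hc.one 2 (by decide)).not_dvd hm (by decide +kernel) (by rw [T.pow, hx]; decide +kernel))
  have hn := ncl_eq hT (f := ntd [1, 1, 1, 1, 1, 1, 1, 1, 1, 2, 2, 1, 2, 2, 4] 0) (fun t ht => by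
    have h1 : ∀ t < 15, t = 9 ∨ t = 10 ∨ ntd [1, 1, 1, 1, 1, 1, 1, 1, 1, 2, 2, 1, 2, 2, 4] 0 t = 1 ∨
      ntd [1, 1, 1, 1, 1, 1, 1, 1, 1, 2, 2, 1, 2, 2, 4] 0 t * Tits.dat.N ≤ Tits.dat.cnt t * Tits.dat.ord t := by
      decide +kernel
    rcases h1 t ht with rfl | rfl | h2 | h2
    · obtain ⟨x, hx⟩ := hI 9 ht
      exact two_le_ncl hx (by rw [T.pow, hx]; decide +kernel) (h9 x hx)
    · exact le_ncl hm hI ht h10 (by decide +kernel)
    · exact h2.le.trans (one_le_ncl hI ht)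
    · exact le_ncl hm hI ht ord_le_cn h2) (by decide +kernel)
  refine ⟨T, hm, hT, hU, kap_of ?_ fun t ht h1 => ?_⟩
  · simp only [List.forall_mem_cons]
    exact ⟨((RatT.of_two (hn 9 (by decide)) (by decide +kernel) h9).kap hm).mono one_le_two,
      KapT.of_ncl hm (by decide) h10 (by decide +kernel) (hn 10 (by decide)),
      KapT.of_ncl hm (by decide) ord_le_cn (by decide +kernel) (hn 12 (by decide)),
      KapT.of_ncl hm (by decide) ord_le_cn (by decide +kernel) (hn 14 (by decide)), List.forall_mem_nil _⟩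
  · have h2 : ∀ t < 15, t ∉ [9, 10, 12, 14] → t = 13 ∨ ntd [1, 1, 1, 1, 1, 1, 1, 1, 1, 2, 2, 1, 2, 2, 4] 0 t = 1 := by
      decide +kernel
    rcases h2 t ht h1 with rfl | h3
    exacts [(RatT.of_unif hU (by decide +kernel)).kap hm, (RatT.of_ncl ((hn t ht).trans h3)).kap hm]

end Cfsg.Agent.N2.SpK
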