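import Cfsg.Agent.N2.SpK.F22B
import Cfsg.Agent.TAB.F22.CovB

/-!
# N2 (S3519), the sporadic rows: the multipliers for `Fi22` (helper26)
-/

set_option autoImplicit false
set_option maxRecDepth 100000

namespace Cfsg.Agent.N2.SpK

open Cfsg Cfsg.Agent.TAB Cfsg.Agent.TAB.Eng Cfsg.Agent.TAB.Use Cfsg.Agent.TH.Spor Cfsg.Agent.H123.Cls.FiDat
open Cfsg.Agent.H494.F22 (rho rho_injective wS wS_cons chkRel rel sw)

theorem rho_el : ∀ w : List ℕ, (∀ x ∈ w, x < 9) → rho (el w) = wS w
  | [], _ => map_one rho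
  | x :: w, h => by
    rw [el_cons, map_mul, gn_S (h x List.mem_cons_self), wS_cons,
      rho_el w fun y hy => h y (List.mem_cons_of_mem _ hy)]

/-- the representative is conjugate to its image under the automorphism of the diagram -/
noncomputable def f22C (t : ℕ) (a b : List ℕ) : Bool :=
  frcL (a ++ F22.wd ((t + 58) % 59) ++ a.reverse) fun u => frcL (b ++ (F22.wd ((t + 58) % 59)).map sw ++ b.reverse)
    fun v => allL (fun x => Nat.blt x 9) (u ++ v) && chkRel (u, v)

theorem f22_word {t : ℕ} (ht : t < 59) {a b : List ℕ} (h : f22C t a b = true) : RatT F22.td t := by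
  rw [f22C, frcL_eq, frcL_eq, Bool.and_eq_true] at h
  have h1 := fun x hx => Nat.blt_eq.mp (allL_spec h.1 x hx)
  rw [List.forall_mem_append] at h1
  have h2 := rel (fun x hx => (h1.1 x hx).trans (by decide)) (fun x hx => (h1.2 x hx).trans (by decide)) h.2
  rw [← rho_el _ h1.1, ← rho_el _ h1.2, rho_injective.eq_iff, el_append, el_append, el_append, el_append, el_reverse,
    el_reverse] at h2
  have h3 : ∀ g, F22.td.ty g = t → IsConj (el (F22.wd ((t + 58) % 59))) g := fun g hg => by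
    obtain ⟨n, h3 | h3⟩ := F22.Cv.exists_word g <;> rw [(F22.ty_iff ht).1 hg] at h3
    · exact isConj_iff.2 ⟨n, h3.symm⟩
    · exact (isConj_iff.2 ⟨_, h2⟩).trans ((isConj_iff.2 ⟨_, rfl⟩ : IsConj _ _).symm.trans (isConj_iff.2 ⟨n, h3.symm⟩))
  exact fun x y hx hy => ⟨1, by rw [pow_one]; exact (h3 x hx).symm.trans (h3 y hy)⟩

theorem inK_fi22 {K : Type} [Group K] (h : Spor.IsoFi22 K) :
    InK K F22.dat (Sm2.mkRows F22.rowA F22.rowB) [(42, 2), (49, 2), (52, 2)] := by
  obtain ⟨e⟩ := h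
  have := F22.fin22
  refine InK.of_equiv ⟨_, F22.mass, F22.tab, bndsF22.1, kap_of_bnds F22.mass F22.inh bndsF22.1 bndsF22.2
    (X := [36, 38, 41]) ?_ [(55, 2, 1), (56, 3, 1)] (List.forall_mem_nil _) (by decide +kernel)⟩ e
  simp only [List.forall_mem_cons]
  exact ⟨f22_word (a := [0]) (b := [0]) (by decide) (by decide +kernel),
    f22_word (a := [8, 4, 2, 3]) (b := [3, 7, 5, 2, 1]) (by decide) (by decide +kernel),
    f22_word (a := [6, 1, 2]) (b := [5, 4, 0]) (by decide) (by decide +kernel), List.forall_mem_nil _⟩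

end Cfsg.Agent.N2.SpK
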