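import Cfsg.Agent.N2.SpK.Asm

/-!
# N2 (S3519), the sporadic rows: the number of the classes in a type (helper26)

* `ncl_eq` : lower bounds whose sum is the number of the characters are exact;
* `RatT.up` : a rational class above the type;
* `two_mul_le_cn` : a central involution of a Sylow subgroup which is not a power.
-/

set_option autoImplicit false

namespace Cfsg.Agent.N2.SpK

open Cfsg Cfsg.Agent.TAB Cfsg.Agent.TAB.Eng Cfsg.Agent.TAB.Use Cfsg.Agent.TH.Spor
open Subgroup (centralizer zpowers mem_centralizer_singleton_iff)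

universe u

variable {G : Type u} [Group G] {D : Dat} {T : TD G D}

/-- the classes of the type `t` -/
def Cl (T : TD G D) (t : ℕ) : Type u := {c : ConjClasses G // T.ty (Quotient.out c) = t}

/-- the number of the classes of the type `t` -/
noncomputable def ncl (T : TD G D) (t : ℕ) : ℕ := Nat.card (Cl T t)

theorem conj_out (x : G) : IsConj (Quotient.out (ConjClasses.mk x)) x := Quotient.mk_out (s := IsConj.setoid G) x

/-- the class of an element -/
noncomputable def cls {t : ℕ} (x : G) (h : T.ty x = t) : Cl T t :=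
  ⟨ConjClasses.mk x, (TD.ty_isConj (conj_out x)).symm.trans h⟩

theorem cls_eq {t : ℕ} {x y : G} {hx : T.ty x = t} {hy : T.ty y = t} (h : cls x hx = cls y hy) : IsConj x y :=
  ConjClasses.mk_eq_mk_iff_isConj.1 (congrArg Subtype.val h)

theorem finite_Cl [Finite G] (t : ℕ) : Finite (Cl T t) := by
  have : Finite (ConjClasses G) := Quotient.finite _
  exact Subtype.finite

theorem ncl_eq [Finite G] {R : Rows} (h : Tab T R) {f : ℕ → ℕ} (hf : ∀ t < D.n, f t ≤ ncl T t)
    (hs : ∑ t ∈ Finset.range D.n, f t = R.n) : ∀ t < D.n, ncl T t = f t := by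
  classical
  have : Finite (ConjClasses G) := Quotient.finite _
  have := Fintype.ofFinite (ConjClasses G)
  have h1 : ∑ t ∈ Finset.range D.n, ncl T t = R.n := by
    rw [← TwoF.SpO.card_classes h, Nat.card_eq_fintype_card, ← Finset.card_univ,
      Finset.card_eq_sum_card_fiberwise (f := fun c : ConjClasses G => T.ty (Quotient.out c)) (t := Finset.range D.n)
        fun c _ => Finset.mem_coe.2 (Finset.mem_range.2 (T.lt _))]
    exact Finset.sum_congr rfl fun t _ => (Nat.subtype_card _ fun c => by simp)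
  exact fun t ht => ((Finset.sum_eq_sum_iff_of_le fun t ht => hf t (Finset.mem_range.1 ht)).1 (hs.trans h1.symm) t
    (Finset.mem_range.2 ht)).symm

theorem cnt_key [Finite G] (hm : T.Mass) {t g : ℕ} (hg : ∀ x, T.ty x = t → g ≤ Nat.card (centralizer ({x} : Set G)))
    {x : G} (hx : T.ty x = t) : D.cnt t * g + D.N ≤ ncl T t * D.N + Nat.card {y : G // IsConj x y} * g := by
  classical
  have := finite_Cl (T := T) t
  have := Fintype.ofFinite (Cl T t)
  have h1 : D.cnt t ≤ ∑ c : Cl T t, Nat.card {y : G // IsConj (Quotient.out c.1) y} := by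
    rw [← hm.2 t (hx ▸ T.lt x), ← Nat.card_sigma]
    exact Nat.card_le_card_of_injective (fun y => ⟨cls y.1 y.2, y.1, conj_out y.1⟩) fun _ _ e =>
      Subtype.ext (congrArg (fun z => z.2.1) e :)
  have h2 : Nat.card {y : G // IsConj (Quotient.out (cls x hx).1) y} = Nat.card {y : G // IsConj x y} :=
    Nat.card_congr (Equiv.subtypeEquivRight fun y => ⟨(conj_out x).symm.trans, (conj_out x).trans⟩)
  have h3 := Finset.sum_le_card_nsmul (Finset.univ.erase (cls x hx))
    (fun c : Cl T t => Nat.card {y : G // IsConj (Quotient.out c.1) y} * g) D.N fun c _ => by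
      rw [← hm.1, ← card_class (Quotient.out c.1)]
      exact Nat.mul_le_mul_left _ (hg _ c.2)
  have h4 := Nat.mul_le_mul_right g h1
  rw [Finset.sum_mul, ← Finset.add_sum_erase _ _ (Finset.mem_univ (cls x hx)), h2] at h4
  rw [ncl, Nat.card_eq_fintype_card, ← Finset.card_univ, ← Finset.card_erase_add_one (Finset.mem_univ (cls x hx)),
    add_mul, one_mul]
  rw [smul_eq_mul] at h3
  omega

theorem le_ncl [Finite G] (hm : T.Mass) (hI : Inh T) {t g m : ℕ} (ht : t < D.n)
    (hg : ∀ x, T.ty x = t → g ≤ Nat.card (centralizer ({x} : Set G))) (h : m * D.N ≤ D.cnt t * g) : m ≤ ncl T t := by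
  obtain ⟨x, hx⟩ := hI t ht
  have h1 := cnt_key hm hg hx
  have h2 : Nat.card {y : G // IsConj x y} * g ≤ D.N := by
    rw [← hm.1, ← card_class x]
    exact Nat.mul_le_mul_left _ (hg x hx)
  exact Nat.le_of_mul_le_mul_right (c := D.N) (by omega) (hm.1 ▸ Nat.card_pos)

theorem KapT.of_ncl [Finite G] (hm : T.Mass) {t g m : ℕ} (h0 : 0 < g)
    (hg : ∀ x, T.ty x = t → g ≤ Nat.card (centralizer ({x} : Set G))) (h : m * D.N = D.cnt t * g) (hn : ncl T t = m) :
    KapT T t m :=
  KapT.of_le hm (fun x hx => by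
    have h1 := cnt_key hm hg hx
    rw [hn, h, Nat.add_le_add_iff_left, ← hm.1, ← card_class x] at h1
    have : Nonempty {y : G // IsConj x y} := ⟨⟨x, IsConj.refl x⟩⟩
    exact Nat.le_of_mul_le_mul_left h1 Nat.card_pos) h0 h.ge

theorem ord_le_cn [Finite G] {t : ℕ} (x : G) (hx : T.ty x = t) : D.ord t ≤ Nat.card (centralizer ({x} : Set G)) := by
  rw [← hx, ← T.ord]
  exact Nat.le_of_dvd Nat.card_pos (Subgroup.orderOf_dvd_natCard _ (mem_centralizer_singleton_iff.2 rfl))

theorem one_le_ncl [Finite G] (hI : Inh T) {t : ℕ} (ht : t < D.n) : 1 ≤ ncl T t := by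
  obtain ⟨x, hx⟩ := hI t ht
  have := finite_Cl (T := T) t
  have : Nonempty (Cl T t) := ⟨cls x hx⟩
  exact Nat.card_pos

theorem two_le_ncl [Finite G] {t : ℕ} {x y : G} (hx : T.ty x = t) (hy : T.ty y = t) (h : ¬ IsConj x y) : 2 ≤ ncl T t := by
  have := finite_Cl (T := T) t
  exact Finite.one_lt_card_iff_nontrivial.2 ⟨_, _, fun e => h (cls_eq (hx := hx) (hy := hy) e)⟩

theorem RatT.of_ncl [Finite G] {t : ℕ} (h : ncl T t = 1) : RatT T t := fun x y hx hy =>
  ⟨1, by rw [pow_one]; exact cls_eq (hx := hx) (hy := hy) ((Nat.card_eq_one_iff_unique.1 h).1.elim _ _)⟩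

theorem RatT.of_two [Finite G] {t k : ℕ} (h : ncl T t = 2) (hk : D.pwf t k = t)
    (hn : ∀ x, T.ty x = t → ¬ IsConj x (x ^ k)) : RatT T t := fun x y hx hy => by
  have h1 : T.ty (x ^ k) = t := by rw [T.pow, hx, hk]
  obtain ⟨c, -, hc⟩ := (Nat.card_eq_two_iff' (cls x hx)).1 h
  by_cases h2 : cls y hy = cls x hx
  · exact ⟨1, by rw [pow_one]; exact (cls_eq h2).symm⟩
  · exact ⟨k, cls_eq ((hc (cls _ h1) fun e => hn x hx (cls_eq e).symm).trans (hc _ h2).symm)⟩

/-- **a rational class above the type** -/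
theorem RatT.up [Finite G] (hm : T.Mass) {u t l a m : ℕ} (hl : l.Prime) (hb : Bnd T u (l ^ a * m)) (h0 : 0 < m)
    (hU : D.cnt u * m < D.N) (ho : ¬ l ∣ D.ord u)
    (h1 : ∀ s < D.n, D.ord s = l * D.ord u → D.pwf s l = D.pwf u l → s = t) (h : RatT T t) : RatT T u := by
  have : Fact l.Prime := ⟨hl⟩
  have h2 : ∀ x, T.ty x = u → ∃ y, T.ty y = t ∧ y ^ l = x ^ l := fun x hx => by
    have h2 : l ∣ Nat.card (centralizer ({x} : Set G)) := by
      by_contra h2
      have h3 := Nat.le_of_dvd h0 ((Nat.Coprime.pow_right a (hl.coprime_iff_not_dvd.2 h2).symm).dvd_of_dvd_mul_left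
        (hb x hx))
      have h4 : Nat.card {g : G // IsConj x g} ≤ D.cnt u := by
        rw [← hm.2 u (hx ▸ T.lt x)]
        exact Nat.card_le_card_of_injective (fun g => ⟨g.1, (TD.ty_isConj g.2).trans hx⟩)
          fun _ _ e => Subtype.ext (congrArg Subtype.val e :)
      exact (hU.trans_le ((hm.1.symm.trans (card_class x).symm).le.trans (Nat.mul_le_mul h4 h3))).false
    obtain ⟨z, hz⟩ := exists_prime_orderOf_dvd_card' l h2
    rw [← Subgroup.orderOf_coe] at hz
    have h3 : Commute z.1 x := mem_centralizer_singleton_iff.1 z.2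
    have h4 : (z.1 * x) ^ l = x ^ l := by rw [h3.mul_pow, ← hz, pow_orderOf_eq_one, one_mul]
    refine ⟨_, h1 _ (T.lt _) ?_ ?_, h4⟩
    · rw [ord_mul hl (n := 1) (by rw [hz, pow_one]) (by rwa [T.ord, hx]) h3, pow_one, hx]
    · rw [← T.pow, h4, T.pow, hx]
  intro x x' hx hx'
  obtain ⟨y, h3, h4⟩ := h2 x hx
  obtain ⟨y', h5, h6⟩ := h2 x' hx'
  obtain ⟨k, hk⟩ := h y y' h3 h5
  obtain ⟨j, hj⟩ := exists_pow_eq_self_of_coprime (x := x') (n := l)
    (hl.coprime_iff_not_dvd.2 (by rwa [T.ord, hx']))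
  obtain ⟨c, hc⟩ := isConj_iff.1 hk
  refine ⟨l * k * j, isConj_iff.2 ⟨c, ?_⟩⟩
  rw [← hj, ← h6, ← hc, conj_pow, conj_pow, pow_mul, pow_mul, ← h4, pow_right_comm y l]

/-- **a central involution of a Sylow subgroup** -/
theorem two_mul_le_cn [Finite G] {x : G} {a e : ℕ} (ho : orderOf x = 2 ^ (a + 1)) (he : 2 ^ e ∣ Nat.card G)
    (h : ¬ 2 ^ e ∣ Nat.card (centralizer ({x ^ 2 ^ a} : Set G))) :
    2 ^ (a + 2) ≤ Nat.card (centralizer ({x} : Set G)) := by
  obtain ⟨P, hP⟩ := (IsPGroup.of_card (p := 2) (G := zpowers x) (by rw [Nat.card_zpowers, ho])).exists_le_sylow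
  have h1 : x ≠ 1 := fun h1 => by
    rw [h1, orderOf_one] at ho
    exact (Nat.one_lt_pow a.succ_ne_zero one_lt_two).ne ho
  obtain ⟨z, -, h2, h3⟩ := exists_central Nat.prime_two P.2 fun h2 =>
    h1 (Subgroup.mem_bot.1 (h2 ▸ hP (Subgroup.mem_zpowers x)))
  have h4 : zpowers x ≤ centralizer {x} := Subgroup.zpowers_le.2 (mem_centralizer_singleton_iff.2 rfl)
  obtain ⟨q, hq⟩ := Subgroup.card_dvd_of_le h4
  have h5 : q ≠ 1 := fun h5 => by
    have h6 := Subgroup.eq_of_le_of_card_ge h4 (by rw [hq, h5, mul_one])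
    have h7 : z ∈ zpowers x := h6 ▸ mem_centralizer_singleton_iff.2 (h3 x (hP (Subgroup.mem_zpowers x))).symm.eq
    obtain ⟨j, rfl⟩ := mem_powers_iff_mem_zpowers.2 h7
    dsimp only at h2 h3
    obtain ⟨i, rfl⟩ : 2 ^ a ∣ j := by
      refine Nat.dvd_of_mul_dvd_mul_right two_pos ?_
      rw [← pow_succ, ← ho, orderOf_dvd_iff_pow_eq_one, pow_mul, ← h2, pow_orderOf_eq_one]
    have h8 : (x ^ 2 ^ a) ^ 2 = 1 := by rw [← pow_mul, ← pow_succ, ← ho, pow_orderOf_eq_one]
    rw [pow_mul, ← Nat.div_add_mod i 2, pow_add, pow_mul, h8, one_pow, one_mul] at h2 h3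
    rcases Nat.mod_two_eq_zero_or_one i with h9 | h9 <;> rw [h9] at h2 h3
    · rw [pow_zero, orderOf_one] at h2
      omega
    · rw [pow_one] at h3
      exact h ((P.pow_dvd_card_of_pow_dvd_card he).trans
        (Subgroup.card_dvd_of_le fun b hb => mem_centralizer_singleton_iff.2 (h3 b hb).eq))
  have h6 : q ≠ 0 := fun h6 => by
    rw [h6, mul_zero] at hq
    exact Nat.card_pos.ne' hq
  rw [hq, Nat.card_zpowers, ho, pow_succ 2 (a + 1)]
  exact Nat.mul_le_mul_left _ (by omega)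

end Cfsg.Agent.N2.SpK
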