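import Cfsg.Agent.N2.SpK.BB
import Cfsg.Agent.N2.SpK.Cnt
import Cfsg.Agent.TAB.B.Fin.Asm
import Cfsg.Agent.BM.KHAll

/-!
# N2 (S3519), the sporadic rows: the multipliers for the Baby Monster (helper26)
-/

set_option autoImplicit false
set_option maxRecDepth 100000

namespace Cfsg.Agent.N2.SpK

open Cfsg Cfsg.Agent.TAB Cfsg.Agent.TAB.Eng Cfsg.Agent.TAB.Use Cfsg.Agent.TH.Spor
open Cfsg.Agent.TAB.B Cfsg.Agent.TAB.B.Geo Cfsg.Agent.TAB.B.Fin

/-- the multipliers -/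
def muB : List (ℕ × ℕ) :=
    [(35, 2), (37, 2), (39, 2), (40, 2), (41, 2), (43, 2), (44, 4), (50, 2), (51, 2), (55, 2), (58, 2), (61, 2),
    (62, 2), (63, 2), (64, 8), (65, 2), (66, 2), (68, 2), (69, 2), (82, 4), (83, 4), (84, 4), (85, 4), (86, 4), (87,
    32), (88, 32), (97, 4), (98, 2), (110, 4), (111, 8), (112, 8), (113, 4), (114, 8), (115, 16), (118, 8), (121,
    8), (123, 64), (141, 64), (142, 64), (147, 2), (148, 2), (154, 8), (163, 16), (164, 16), (173, 8)]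

theorem boxCs_B : ∀ t ∈ oneB, BoxCB t := by
  delta oneB
  simp only [List.forall_mem_cons]
  exact ⟨
    B.Geo.boxC_2A, B.Geo.boxC_2B, B.Geo.boxC_2C, B.Geo.boxC_2D, B.A3.boxC_3A, B.C3.boxC_3B, B.D.boxC_5A,
    B.D.boxC_5B, B.D.boxC_7A, B.A3.boxC_6A, B.C3.boxC_12F, B.C3.boxC_12N, B.C3.boxC_12Q, B.C3.boxC_12R,
    B.C3.boxC_12S, B.C3.boxC_12T, B.C3.boxC_18D, B.C3.boxC_18E, B.C3.boxC_18F, B.C3.boxC_24H, B.C3.boxC_24J,
    B.C3.boxC_24M, B.C3.boxC_27A, B.C3.boxC_36C, B.C3.boxC_6D, B.C3.boxC_6I, B.C3.boxC_6J, B.C3.boxC_6K,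
    B.C3.boxC_9A, B.C3.boxC_9B, B.D.boxC_10A, B.D.boxC_10C, B.D.boxC_14A, B.D.boxC_14B, B.D.boxC_14C, B.D.boxC_15A,
    B.D.boxC_20H, B.D.boxC_21A, B.D.boxC_30A, B.D.boxC_30B, B.D.boxC_30C, B.D.boxC_35A, B.D.boxC_42A, B.D.boxC_42B,
    B.D.boxC_42C, B.D.boxC_70A, B.D.boxC_10F, B.D.boxC_15B, B.D.boxC_20G, B.D.boxC_20J, B.D.boxC_25A, B.D.boxC_30F,
    B.D.boxC_40E, B.D.boxC_60C, B.P11.boxC_11A, B.P11.boxC_13A, B.P11.boxC_17A, B.P11.boxC_19A, B.P11.boxC_22A,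
    B.P11.boxC_26A, B.P11.boxC_26B, B.P11.boxC_33A, B.P11.boxC_34C, B.P11.boxC_38A, B.P11.boxC_39A, B.P11.boxC_52A,
    B.P11.boxC_55A, B.P11.boxC_66A, List.forall_mem_nil _⟩

/-- the table of the model, with the types which are classes -/
theorem tab_BG : ∃ T : TD BG datF, Hyp T ∧ ∀ t ∈ oneB, One T t := by
  classical
  let _ : Fintype BG := Fintype.ofFinite _
  obtain ⟨T, hm, hT⟩ := exists_tdB all_boxes
  obtain ⟨T', h1, h2, h3⟩ := RefHyp.refine (T := T) (π := piB)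
    ⟨hm, isChar_piB, (sum_piB_sq.trans (congrArg (10 * ·) hm.1)).le, C2.low hT, C2.a16 hT, a18 hT⟩
  refine ⟨T', ⟨h1, ?_, ?_, fun g hg => ?_⟩, fun t ht => ?_⟩
  · have h4 : (fun g => ((nth valF (T'.ty g) : ℤ) : ℂ)) = fun g => ((tr g : ℚ) : ℂ) := by
      funext g
      rw [ty_val (T.lt g) ((hT _ _ (T.lt g)).1 rfl), (val_ok _ (T'.lt g)).2.1, h2, Rat.cast_intCast]
    show IsGeneralizedCharacter BG _
    rw [h4]
    exact Characters.Brauer.isGeneralizedCharacter_of_isCharacter isChar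
  · have h4 : (fun g => ((nth piF (T'.ty g) : ℤ) : ℂ)) = fun g => ((piB g : ℕ) : ℂ) := by
      funext g
      rw [(val_ok _ (T'.lt g)).2.2, h3, Int.cast_natCast]
    show IsGeneralizedCharacter BG _
    rw [h4]
    exact Characters.Brauer.isGeneralizedCharacter_of_isCharacter isChar_piB
  · rw [show Nat.card (Subgroup.centralizer ({g} : Set BG)) = 38 from P11.c19 g (by rw [T'.ord, hg]; rfl)]
    norm_num
  · obtain ⟨h4, h5, h6⟩ := (by decide +kernel : ∀ t ∈ oneB, t < 173 ∧ datF.cnt t = B.dat.cnt t ∧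
      ∀ i < 175, cF i = t → i = t) t ht
    obtain ⟨x, h7, h8⟩ := BoxC.one hT h4 (boxCs_B t ht)
    exact ⟨x, h6 _ (T'.lt x) ((h2 x).trans h7), h5 ▸ h8⟩

theorem inK_b {K : Type} [Group K] (h : Spor.IsoB K) : InK K datF NB.R muB := by
  obtain ⟨e⟩ := h
  obtain ⟨T, H, h1⟩ := tab_BG
  have h2 := unif_of_one H.mass _ (by decide +kernel) h1
  have h3 : Tab T NB.R := NB.R_eq ▸ H.tab
  have h4 := bndsB H.mass h3 h1
  exact InK.of_equiv ⟨T, H.mass, h3, h2, kap_of_bnds H.mass (inh_of_okT H.mass okTB) h2 h4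
    (List.forall_mem_singleton.2 (RatT.up H.mass (u := 24) (t := 159) (l := 7) (a := 1) (m := 4976640) (by norm_num)
      (h4 24) (by norm_num) (by decide +kernel) (by decide +kernel) (by decide +kernel)
      (RatT.of_one H.mass (h1 159 (by decide)))))
    [(100, 5, 1), (101, 5, 1), (104, 5, 1), (116, 3, 1), (120, 3, 1), (128, 7, 1), (129, 7, 1), (130, 7, 1), (131,
    7, 1), (132, 7, 1), (139, 5, 1), (144, 17, 1), (152, 5, 1), (153, 5, 1), (155, 5, 1), (160, 11, 1), (161, 23,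
    1), (167, 7, 1), (168, 3, 1), (169, 3, 1)]
    (List.forall_mem_nil _) (by decide +kernel)⟩ (e.trans BM.KHAll.iso)

end Cfsg.Agent.N2.SpK
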