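import Cfsg.Agent.N2.SpK.Tool
import Cfsg.Agent.TH.Spor.NFi24D
import Cfsg.Agent.TAB.F24C.DZ

/-!
# N2 (S3519), the sporadic rows: the multipliers for `Fi24'` (helper26)
-/

set_option autoImplicit false
set_option maxRecDepth 100000

namespace Cfsg.Agent.N2.SpK

open Cfsg Cfsg.Agent.TAB Cfsg.Agent.TAB.Eng Cfsg.Agent.TAB.Use Cfsg.Agent.TH.Spor

theorem KapT.of_ratA {G : Type} [Group G] [Finite G] {D : Dat} {T : TD G D} (hm : T.Mass) {al : MulAut G}
    (h : F24.RatA T al) (t : ℕ) : KapT T t 2 := fun x hx => by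
  classical
  have := finite_RC (T := T) x
  have h1 : ∀ y : {g // T.ty g = t}, ¬ (∃ k : ℕ, IsConj (x ^ k) y.1) → ∃ k : ℕ, IsConj (x ^ k) (al.symm y.1) :=
    fun y hy => by
      obtain ⟨k, hk⟩ := h.2 x y.1 (hx.trans y.2.symm)
      exact ⟨k, by simpa using al.symm.toMonoidHom.map_isConj (hk.resolve_left fun h2 => hy ⟨k, h2⟩)⟩
  rw [two_mul, ← Nat.card_sum, ← hm.2 t (hx ▸ T.lt x)]
  refine Nat.card_le_card_of_injective (β := RC T x ⊕ RC T x) (fun y => if h2 : ∃ k : ℕ, IsConj (x ^ k) y.1 then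
    .inl ⟨y.1, y.2.trans hx.symm, h2⟩ else
    .inr ⟨al.symm y.1, by rw [← h.1, al.apply_symm_apply, y.2, hx], h1 y h2⟩) fun y y' e => ?_
  dsimp only at e
  split_ifs at e
  · exact Subtype.ext (congrArg Subtype.val (Sum.inl_injective e) :)
  · exact Subtype.ext (al.symm.injective (congrArg Subtype.val (Sum.inr_injective e) :))

theorem inK_fi24 {K : Type} [Group K] (h : Spor.IsoFi24' K) : InK K F24.DT NFi24.R
    [(48, 2), (63, 2), (68, 2), (74, 2), (75, 2), (78, 2), (83, 2), (87, 2), (88, 2), (89, 2), (91, 2), (92, 2)] := by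
  obtain ⟨e⟩ := h
  obtain ⟨X, _, _, ⟨S⟩⟩ := F24C.inF24
  have := S.mn.finite
  have hU : Unif S.T' := SB.SporL.unif_of S.mass' [1, 2, 3, 4, 5, 6, 7, 11, 23, 24] (by decide +kernel)
    fun t ht g g' hg hg' => ⟨1, by
      have h1 : ∀ t ∈ [1, 2, 3, 4, 5, 6, 7, 11, 23, 24], t < 94 ∧ F24.kind.getD t 0 = 0 := by decide
      rw [pow_one]
      exact S.one t (h1 t ht).1 (h1 t ht).2 g g' hg hg'⟩
  refine InK.of_equiv ⟨S.T', S.mass', NFi24.R_eq ▸ S.mn.tab, hU, kap_of (fun p hp => ?_) fun t ht h1 => ?_⟩ e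
  · have h1 : ∀ p ∈ [(48, 2), (63, 2), (68, 2), (74, 2), (75, 2), (78, 2), (83, 2), (87, 2), (88, 2), (89, 2), (91, 2),
      (92, 2)], p.2 = 2 := by decide
    exact h1 p hp ▸ KapT.of_ratA S.mass' S.rat' _
  · have h2 : ∀ t < 94, t ∉ [48, 63, 68, 74, 75, 78, 83, 87, 88, 89, 91, 92] →
      F24.kind.getD t 0 = 0 ∨ (F24.DT.ord t).Prime := by decide +kernel
    rcases h2 t ht h1 with h3 | h3
    · exact RatT.kap S.mass' fun g g' hg hg' => ⟨1, by rw [pow_one]; exact S.one t ht h3 g g' hg hg'⟩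
    · exact (RatT.of_unif hU h3).kap S.mass'

end Cfsg.Agent.N2.SpK
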