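import Cfsg.Agent.N2.SpK.MB
import Cfsg.Agent.TAB.M.Main

/-!
# N2 (S3519), the sporadic rows: the multipliers for the Monster (helper26)
-/

set_option autoImplicit false
set_option maxRecDepth 100000

namespace Cfsg.Agent.N2.SpK

open Cfsg Cfsg.Agent.TAB Cfsg.Agent.TAB.Eng Cfsg.Agent.TAB.Use Cfsg.Agent.TH.Spor
open Cfsg.Agent.TAB.C2B (cover countC all_boxes)

/-- the multipliers -/
def muM : List (ℕ × ℕ) :=
    [(20, 2), (21, 8), (22, 2), (23, 8), (24, 2), (25, 64), (34, 4), (35, 8), (36, 2), (37, 4), (38, 2), (39, 32),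
    (41, 8), (42, 16), (43, 64), (53, 64), (54, 32), (55, 32), (59, 3), (60, 9), (61, 9), (63, 16), (65, 4), (66,
    64), (67, 16), (70, 2), (76, 64), (77, 128), (78, 128), (79, 64), (80, 64), (81, 512), (82, 2), (83, 256), (84,
    128), (85, 1024), (89, 81), (103, 512), (104, 512), (110, 12), (111, 18), (112, 6), (113, 18), (119, 256), (120,
    32), (131, 512), (136, 81), (138, 64), (139, 4), (143, 4), (144, 2), (146, 2), (147, 2), (162, 16), (167, 2)]

theorem inK_m {K : Type} [Group K] (h : Spor.IsoM K) : InK K M.dat NM.R muM := by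
  obtain ⟨e⟩ := h
  have := BpSpor.MBigModel.finite
  obtain ⟨T, H, hT⟩ := M.tab_of M.base C3B.box3
  obtain ⟨f⟩ := H593.IMMon.equivMG
  have hb := all_boxes M.base (List.forall_mem_cons.2 ⟨C3B.box3.1.box, C3B.box3.2⟩)
  have ho : ∀ {i}, i < 171 → M.BoxCM i → One T i := fun hi h => BoxC.one hT hi h
  have h1 : ∀ t ∈ oneM, One T t := by
    delta oneM
    simp only [List.forall_mem_cons]
    exact ⟨ho (by decide) M4.boxC_2A, ho (by decide) M4.boxC_2B, ho (by decide) (M7.boxC_7A cover countC),
      ho (by decide) (Big.boxC_13A cover countC), ho (by decide) (Big.boxC_13B cover), H.one 3 (by decide),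
      H.one 4 (by decide), H.one 5 (by decide), H.one 10 (by decide), H.one 11 (by decide), H.one 19 (by decide),
      H.one 33 (by decide), H.one 108 (by decide), ho (by decide) M4.boxC_4B, ho (by decide) M4.boxC_6A,
      ho (by decide) M5.boxC_10A, ho (by decide) (M5.boxC_10C_of countC), ho (by decide) (M7.boxC_14A cover countC),
      ho (by decide) M5.boxC_15A, ho (by decide) M5.boxC_15B, ho (by decide) (M5.boxC_15C_of countC),
      ho (by decide) (M5.boxC_15D_of cover), ho (by decide) M5.boxC_20B, ho (by decide) (M7.boxC_21A cover countC),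
      ho (by decide) (M7.boxC_21C cover countC), ho (by decide) (M5.boxC_25A_of cover),
      ho (by decide) (M7.boxC_28A cover countC), ho (by decide) M5.boxC_30B, ho (by decide) (M5.boxC_30F_of countC),
      ho (by decide) M5.boxC_40A, ho (by decide) (M5.boxC_45A_of fun i hi _ _ _ => hb i hi),
      ho (by decide) (M5.boxC_50A_of cover), ho (by decide) M5.boxC_60A, ho (by decide) (M7.boxC_84A cover countC),
      List.forall_mem_nil _⟩
  have h2 := unif_of_one H.mass _ (by decide +kernel) h1
  have h3 : Tab T NM.R := NM.R_eq ▸ H.tab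
  exact InK.of_equiv ⟨T, H.mass, h3, h2, kap_of_bnds H.mass (inh_of_okT H.mass okTM) h2 (bndsM H.mass h3 h1)
    (List.forall_mem_nil _)
    [(68, 5, 1), (72, 7, 1), (91, 7, 1), (92, 7, 1), (93, 7, 1), (105, 11, 1), (109, 5, 1), (117, 3, 1), (123, 7,
    1), (125, 7, 1), (126, 11, 1), (128, 23, 1), (129, 23, 1), (135, 13, 1), (137, 5, 1), (145, 3, 1), (148, 2, 1),
    (150, 3, 1), (151, 17, 1), (152, 3, 1), (154, 5, 1), (157, 3, 1), (159, 3, 1), (160, 3, 1), (161, 3, 1), (163,
    23, 1), (164, 3, 1), (165, 2, 1), (166, 5, 1), (169, 5, 1), (170, 7, 1)]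
    (List.forall_mem_nil _) (by decide +kernel)⟩ (e.trans f)

end Cfsg.Agent.N2.SpK
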