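import Cfsg.Agent.N2.SpK.Asm
import Cfsg.Agent.TH.Spor.InD

/-!
# N2 (S3519), the sporadic rows: bounds for the centralizers in `F22` (helper26)
-/

set_option autoImplicit false
set_option maxRecDepth 100000

namespace Cfsg.Agent.N2.SpK

open Cfsg Cfsg.Agent.TAB Cfsg.Agent.TAB.Eng Cfsg.Agent.TAB.Use Cfsg.Agent.TH.Spor Cfsg.Agent.TAB.Sm2
open Cfsg.Agent.TwoF.SpO

/-- the certificates -/
def csF22 : List (ℕ × List (ℤ × ℕ)) :=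
    [(0, [(1, 28)]), (1, [(1, 1)]), (1, [(1, 2)]), (1, [(1, 3)]), (0, [(1, 29)]), (1, [(1, 4)]), (0, [(1, 25)]), (1,
    [(1, 5)]), (1, [(1, 7)]), (0, [(1, 13)]), (0, [(1, 57)]), (0, [(1, 33)]), (0, [(1, 48)]), (0, [(1, 27)]), (1,
    [(1, 17)])]

/-- the steps -/
def stF22 : List St :=
    [.cm 8 0 53, .cm 8 0 30, .cm 8 1 13, .cm 9 0 57, .cm 9 2 13, .cm 9 0 27, .cm 10 0 34, .cm 10 1 4, .cm 10 1 7,
    .cm 11 1 13, .cm 11 1 1, .cm 12 1 13, .cm 12 1 6, .cm 14 3 4, .cm 14 2 13, .cm 15 4 33, .cm 15 1 5, .cm 15 5 1,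
    .cm 16 3 13, .cm 16 1 1, .cm 17 0 57, .cm 17 1 13, .cm 18 2 13, .cm 18 1 1, .cm 19 6 47, .cm 19 1 1,
    .cm 20 4 39, .cm 20 7 4, .cm 20 7 2, .cm 21 3 13, .cm 21 1 1, .cm 22 8 13, .cm 22 1 1, .cm 23 1 5, .cm 23 1 13,
    .cm 24 3 13, .cm 24 1 1, .cm 25 9 35, .cm 25 1 1, .cm 26 1 13, .cm 26 9 26, .cm 27 0 26, .cm 27 1 13,
    .cm 28 1 13, .cm 28 1 1, .cm 29 10 39, .cm 29 1 13, .cm 30 8 13, .cm 30 9 54, .cm 31 9 31, .cm 31 1 1,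
    .cm 32 8 13, .cm 32 9 54, .cm 33 11 33, .cm 33 1 13, .cm 34 9 58, .cm 34 1 13, .cm 35 12 35, .cm 36 7 4,
    .cm 36 7 13, .cm 36 1 4, .cm 37 3 4, .cm 37 2 13, .cm 38 7 13, .cm 38 1 1, .cm 38 1 13, .cm 39 4 57,
    .cm 39 1 13, .cm 40 0 56, .cm 40 1 13, .cm 41 0 57, .cm 41 1 4, .cm 42 3 13, .cm 42 1 1, .cm 43 13 43,
    .cm 43 2 13, .cm 44 1 13, .cm 44 1 1, .cm 44 14 13, .cm 45 3 13, .cm 45 1 1, .cm 46 12 46, .cm 47 9 34,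
    .cm 47 9 27, .cm 47 9 47, .cm 48 9 48, .cm 49 4 26, .cm 49 1 4, .cm 50 9 50, .cm 50 1 13, .cm 51 3 13,
    .cm 51 1 1, .cm 52 3 13, .cm 52 9 47, .cm 53 1 13, .cm 53 9 26, .cm 54 9 54, .cm 54 1 1, .cm 55 12 55,
    .cm 56 0 48, .cm 56 1 4, .cm 57 4 39, .cm 57 1 4, .cm 58 9 34, .cm 58 9 55, .pw 14 2, .pw 14 3, .pw 15 3,
    .pw 20 2, .pw 21 2, .ds 30 2 1 0, .pw 33 2, .pw 36 2, .pw 36 3, .pw 37 3, .pw 38 2, .pw 38 3, .pw 42 3,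
    .pw 43 2, .pw 43 3, .pw 51 2, .pw 53 2, .cm 9 1 34, .cm 10 1 24, .cm 16 1 25, .cm 17 1 33, .cm 18 2 25,
    .cm 18 1 34, .cm 19 2 11, .cm 27 1 48, .cm 29 1 25, .cm 30 3 33, .cm 31 3 28, .cm 32 3 11, .cm 37 1 25,
    .cm 39 1 34, .cm 41 1 34, .cm 42 1 25, .cm 43 1 25, .cm 45 1 47, .cm 49 1 47, .cm 50 3 33, .cm 51 3 33,
    .cm 52 3 25, .cm 56 1 25, .cm 57 1 47, .cm 8 1 30, .cm 26 1 30, .cm 27 1 30, .cm 37 1 30, .cm 38 1 30,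
    .cm 40 1 30, .cm 49 1 30, .cm 53 1 30, .cm 57 1 30]

/-- the bounds -/
def bdF22 : List ℕ :=
    [64561751654400, 1769472, 53084160, 18393661440, 17496, 2519424, 139968, 19595520, 4608, 12288, 3072, 46080,
    110592, 600, 216, 3456, 432, 3456, 864, 3888, 10368, 1728, 6912, 93312, 155520, 42, 32, 128, 384, 384, 27, 162,
    324, 40, 60, 22, 72, 72, 288, 96, 576, 1152, 144, 96, 288, 864, 13, 14, 30, 32, 54, 36, 108, 20, 21, 22, 96, 48,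
    30]

theorem chkF22 : chk F22.dat (irows (mkRows F22.rowA F22.rowB)) (prows (mkRows F22.rowA F22.rowB)) [] csF22 stF22
    (ini F22.dat [1, 2, 3, 4, 5, 6, 7, 13]) bdF22 = true := by decide +kernel

theorem okTF22 : okT F22.dat (mkRows F22.rowA F22.rowB) = true := by decide +kernel

theorem bndsF22 : Unif F22.td ∧ Bnds F22.td bdF22 := by
  have := F22.fin22
  have := Fintype.ofFinite Spor.Fi22
  have h1 := one_of_bnd F22.mass (bnd_of_chk F22.mass (irr_mkRows F22.tab)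
    (ms := [[(1, 3), (315, 12), (224, 24)], [(1, 13)]]) (L := bF22) (by decide +kernel)) (by decide +kernel)
  exact ⟨unif_of_one F22.mass _ (by decide +kernel) h1,
    bnd_run F22.mass.1 (inh_of_okT F22.mass okTF22) (rw_of F22.mass F22.tab okTF22) (bnds_ini F22.mass h1) chkF22⟩

end Cfsg.Agent.N2.SpK
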