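import Cfsg.Agent.N2.SpK.Asm
import Cfsg.Agent.TH.Spor.InD

/-!
# N2 (S3519), the sporadic rows: bounds for the centralizers in `Suz` (helper26)
-/

set_option autoImplicit false
set_option maxRecDepth 100000

namespace Cfsg.Agent.N2.SpK

open Cfsg Cfsg.Agent.TAB Cfsg.Agent.TAB.Eng Cfsg.Agent.TAB.Use Cfsg.Agent.TH.Spor Cfsg.Agent.TAB.Sm2
open Cfsg.Agent.TwoF.SpO

/-- the certificates -/
def csSuz : List (ℕ × List (ℤ × ℕ)) :=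
    [(0, [(1, 14)]), (1, [(1, 2)]), (1, [(1, 1)]), (1, [(1, 36)]), (1, [(1, 28)]), (0, [(1, 13)]), (0, [(90, 10),
    (35, 15), (1, 31)]), (1, [(1, 15)]), (1, [(1, 4)]), (1, [(1, 31)]), (1, [(1, 33)]), (1, [(1, 35)])]

/-- the steps -/
def stSuz : List St :=
    [.cm 2 0 11, .cm 2 1 34, .cm 3 0 26, .cm 3 1 4, .cm 3 2 14, .cm 5 3 34, .cm 5 0 9, .cm 7 2 14, .cm 7 4 4,
    .cm 7 4 34, .cm 8 0 8, .cm 8 2 34, .cm 8 2 14, .cm 9 5 9, .cm 9 6 9, .cm 10 6 29, .cm 10 2 14, .cm 11 0 11,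
    .cm 11 2 4, .cm 12 0 13, .cm 12 5 5, .cm 13 0 13, .cm 13 6 13, .cm 15 7 6, .cm 15 7 31, .cm 15 1 4, .cm 16 0 16,
    .cm 16 6 9, .cm 16 7 14, .cm 17 5 17, .cm 17 6 9, .cm 18 6 22, .cm 18 6 13, .cm 19 6 19, .cm 20 8 14,
    .cm 20 6 9, .cm 21 3 14, .cm 21 1 4, .cm 21 2 34, .cm 22 6 19, .cm 23 2 34, .cm 23 2 4, .cm 24 0 12, .cm 24 9 4,
    .cm 24 4 34, .cm 25 2 14, .cm 25 5 9, .cm 25 2 34, .cm 26 0 7, .cm 26 4 34, .cm 26 2 14, .cm 27 0 27,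
    .cm 27 2 34, .cm 28 2 14, .cm 28 2 36, .cm 28 2 4, .cm 29 0 29, .cm 29 6 13, .cm 30 10 14, .cm 30 1 4,
    .cm 30 4 34, .cm 32 11 4, .cm 32 2 14, .cm 33 5 24, .cm 33 2 4, .cm 35 4 14, .cm 35 2 6, .cm 35 4 34, .pw 3 2,
    .pw 8 2, .pw 8 3, .pw 10 2, .ds 10 3 1 0, .pw 12 2, .ds 16 3 1 0, .pw 21 2, .pw 23 2, .ds 23 3 1 0, .pw 25 2,
    .pw 32 2, .cm 11 4 13, .cm 24 4 13, .cm 33 2 10]

/-- the bounds -/
def bdSuz : List ℕ :=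
    [448345497600, 3317760, 6144, 432, 34992, 40, 3240, 288, 48, 11, 28, 128, 20, 15, 300, 72, 13, 21, 45, 36, 54,
    54, 288, 128, 96, 40, 144, 96, 3456, 84, 384, 161280, 1296, 1536, 1800, 46080, 9797760]

theorem chkSuz : chk TAB.Sz.dat (irows (mkRows TAB.Sz.rowA TAB.Sz.rowB)) (prows (mkRows TAB.Sz.rowA TAB.Sz.rowB)) [] csSuz stSuz
    (ini TAB.Sz.dat [1, 4, 6, 14, 31, 34, 36]) bdSuz = true := by decide +kernel

theorem okTSuz : okT TAB.Sz.dat (mkRows TAB.Sz.rowA TAB.Sz.rowB) = true := by decide +kernel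

theorem bndsSuz : Unif TAB.Sz.td ∧ Bnds TAB.Sz.td bdSuz := by
  have : Finite Spor.Suz := Nat.finite_of_card_ne_zero (by rw [TAB.Sz.mass.1]; decide)
  have := Fintype.ofFinite Spor.Suz
  have h1 := one_of_bnd TAB.Sz.mass (bnd_of_chk TAB.Sz.mass (irr_mkRows TAB.Sz.tab)
    (ms := [[(90, 10), (35, 15), (1, 31)]]) (L := bSuz) (by decide +kernel)) (by decide +kernel)
  exact ⟨unif_of_one TAB.Sz.mass _ (by decide +kernel) h1, bnd_run TAB.Sz.mass.1 (inh_of_okT TAB.Sz.mass okTSuz)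
    (rw_of TAB.Sz.mass TAB.Sz.tab okTSuz) (bnds_ini TAB.Sz.mass h1) chkSuz⟩

end Cfsg.Agent.N2.SpK
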